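import Mathlib

/-! Invertible modules on a normal affine cone are free: a rank one idempotent over `A[t]`
splits as soon as `A` is integrally closed and the idempotent is split at `t = 0`. -/

universe u

open Polynomial

namespace Groth.Agent.ConePic

/-- Gauss: in a field with a valuation, the products of coefficients of two polynomials are
bounded by the coefficients of the product. -/
theorem valuation_coeff_mul_le_one {K : Type*} [Field K] {Γ : Type*}
    [LinearOrderedCommGroupWithZero Γ] (v : Valuation K Γ) (f g : K[X])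
    (h : ∀ n, v ((f * g).coeff n) ≤ 1) (i j : ℕ) : v (f.coeff i * g.coeff j) ≤ 1 := by
  classical
  rcases eq_or_ne (f.coeff i * g.coeff j) 0 with h0 | h0
  · simp [h0]
  obtain ⟨hfi, hgj⟩ := mul_ne_zero_iff.mp h0
  have hfs : f.support.Nonempty := ⟨i, mem_support_iff.mpr hfi⟩
  have hgs : g.support.Nonempty := ⟨j, mem_support_iff.mpr hgj⟩
  let mf : Γ := f.support.sup' hfs fun k => v (f.coeff k)
  let mg : Γ := g.support.sup' hgs fun k => v (g.coeff k)
  have hexf : ∃ k, v (f.coeff k) = mf := by
    obtain ⟨k, -, hk⟩ := Finset.exists_mem_eq_sup' hfs fun k => v (f.coeff k)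
    exact ⟨k, hk.symm⟩
  have hexg : ∃ k, v (g.coeff k) = mg := by
    obtain ⟨k, -, hk⟩ := Finset.exists_mem_eq_sup' hgs fun k => v (g.coeff k)
    exact ⟨k, hk.symm⟩
  have hlef : ∀ k, v (f.coeff k) ≤ mf := by
    intro k
    by_cases hk : k ∈ f.support
    · exact Finset.le_sup' (fun k => v (f.coeff k)) hk
    · simp [notMem_support_iff.mp hk]
  have hleg : ∀ k, v (g.coeff k) ≤ mg := by
    intro k
    by_cases hk : k ∈ g.support
    · exact Finset.le_sup' (fun k => v (g.coeff k)) hk
    · simp [notMem_support_iff.mp hk]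
  have hmf : 0 < mf :=
    lt_of_lt_of_le (zero_lt_iff.mpr ((Valuation.ne_zero_iff v).mpr hfi)) (hlef i)
  have hmg : 0 < mg :=
    lt_of_lt_of_le (zero_lt_iff.mpr ((Valuation.ne_zero_iff v).mpr hgj)) (hleg j)
  let i0 := Nat.find hexf
  let j0 := Nat.find hexg
  have hi0 : v (f.coeff i0) = mf := Nat.find_spec hexf
  have hj0 : v (g.coeff j0) = mg := Nat.find_spec hexg
  have hsum : v ((f * g).coeff (i0 + j0)) = mf * mg := by
    rw [coeff_mul, v.map_sum_eq_of_lt (j := (i0, j0)) (by simp) ?_, map_mul, hi0, hj0]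
    rintro ⟨a, b⟩ hab
    simp at hab
    rw [map_mul, map_mul, hi0, hj0]
    rcases lt_or_ge a i0 with ha | ha
    · have h1 : v (f.coeff a) < mf := lt_of_le_of_ne (hlef a) (Nat.find_min hexf ha)
      calc v (f.coeff a) * v (g.coeff b) ≤ v (f.coeff a) * mg := mul_le_mul_right (hleg b) _
        _ < mf * mg := mul_lt_mul_of_pos_right h1 hmg
    · have hb : b < j0 := by
        rcases lt_or_ge b j0 with hb | hb
        · exact hb
        · exact absurd (show b = j0 by omega) (hab.2 (by omega))
      have h1 : v (g.coeff b) < mg := lt_of_le_of_ne (hleg b) (Nat.find_min hexg hb)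
      calc v (f.coeff a) * v (g.coeff b) ≤ mf * v (g.coeff b) := mul_le_mul_left (hlef a) _
        _ < mf * mg := mul_lt_mul_of_pos_left h1 hmf
  calc v (f.coeff i * g.coeff j) = v (f.coeff i) * v (g.coeff j) := map_mul ..
    _ ≤ mf * mg := mul_le_mul' (hlef i) (hleg j)
    _ = v ((f * g).coeff (i0 + j0)) := hsum.symm
    _ ≤ 1 := h _

/-- Products of coefficients lie in an integrally closed subring containing the coefficients of
the product. -/
theorem coeff_mul_coeff_mem (A K : Type*) [CommRing A] [IsDomain A] [IsIntegrallyClosed A]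
    [Field K] [Algebra A K] [IsFractionRing A K] (f g : K[X])
    (h : ∀ n, (f * g).coeff n ∈ (algebraMap A K).range) (i j : ℕ) :
    f.coeff i * g.coeff j ∈ (algebraMap A K).range := by
  have : IsIntegrallyClosedIn (algebraMap A K).range K :=
    Subring.isIntegrallyClosedIn_iff.mpr fun {x} hx => by
      obtain ⟨p, hp, hpx⟩ := hx
      obtain ⟨q, hq, -, hqm⟩ := Polynomial.lifts_and_degree_eq_and_monic
        (f := (algebraMap A K).rangeRestrict) (p := p)
        (by rw [Polynomial.lifts_iff_coeff_lifts]
            exact fun n => RingHom.rangeRestrict_surjective _ _) hp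
      have : IsIntegral A x := ⟨q, hqm, by
        rw [← hpx, Polynomial.eval₂_eq_eval_map, Polynomial.eval₂_eq_eval_map, ← hq,
          Polynomial.map_map]
        rfl⟩
      obtain ⟨y, hy⟩ := IsIntegrallyClosed.isIntegral_iff.mp this
      exact ⟨y, hy⟩
  rw [Subring.eq_iInf_of_isIntegrallyClosedIn (R := (algebraMap A K).range), Subring.mem_iInf]
  rintro ⟨V, hV⟩
  have := valuation_coeff_mul_le_one V.valuation f g
    (fun n => (V.valuation_le_one_iff _).mpr (hV (h n))) i j
  exact (V.valuation_le_one_iff _).mp this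

variable {A : Type u} [CommRing A] [IsDomain A] [IsIntegrallyClosed A]

/-- A rank one idempotent matrix over `A[t]` which is, at `t = 0`, defined over a subfield of
`A`, splits at `t = 1`. -/
theorem exists_split_eval_one {k : Type*} [Field k] [Algebra k A] {n : Type*} [Fintype n]
    (E : n → n → A[X]) (hr : ∀ i j i' j', E i j * E i' j' = E i j' * E i' j)
    (htr : ∑ i, E i i = 1) (h0 : ∀ i j, ∃ c : k, (E i j).coeff 0 = algebraMap k A c) :
    ∃ v w : n → A, (∀ i j, (E i j).eval 1 = v i * w j) ∧ ∑ i, v i * w i = 1 := by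
  classical
  let K := FractionRing A
  let ι : A →+* K := algebraMap A K
  have hι : Function.Injective ι := IsFractionRing.injective A K
  let F : n → n → K[X] := fun i j => (E i j).map ι
  have hFr : ∀ i j i' j', F i j * F i' j' = F i j' * F i' j := by
    intro i j i' j'
    simp only [F, ← Polynomial.map_mul, hr]
  have hFtr : ∑ i, F i i = 1 := by
    simp only [F, ← Polynomial.map_sum, htr, Polynomial.map_one]
  obtain ⟨p, hp⟩ : ∃ p, F p p ≠ 0 := by
    by_contra hc
    push Not at hc
    simp [hc] at hFtr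
  obtain ⟨g, hg⟩ := (IsPrincipalIdealRing.principal (Ideal.span (Set.range fun i => F i p)))
  have hmem : ∀ i, g ∣ F i p := fun i => by
    have : F i p ∈ Ideal.span (Set.range fun i => F i p) := Ideal.subset_span ⟨i, rfl⟩
    rw [hg] at this
    exact Ideal.mem_span_singleton.mp this
  choose v hv using hmem
  have hg0 : g ≠ 0 := by
    rintro rfl
    exact hp (by rw [hv p, zero_mul])
  obtain ⟨r, hr'⟩ : ∃ r : n → K[X], ∑ i, r i * F i p = g := by
    have : g ∈ Ideal.span (Set.range fun i => F i p) := by
      rw [hg]; exact Submodule.mem_span_singleton_self g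
    exact Ideal.mem_span_range_iff_exists_fun.mp this
  have hrv : ∑ i, r i * v i = 1 := by
    apply mul_left_cancel₀ hg0
    rw [Finset.mul_sum, mul_one]
    conv_rhs => rw [← hr']
    exact Finset.sum_congr rfl fun i _ => by rw [hv i]; ring
  let w : n → K[X] := fun j => ∑ i, r i * F i j
  have hF : ∀ i j, F i j = v i * w j := by
    intro i j
    apply mul_left_cancel₀ hp
    have hgw : g * F p j = F p p * w j := by
      simp only [w, Finset.mul_sum]
      have h2 : ∀ l, F p p * (r l * F l j) = r l * (F l p * F p j) := fun l => by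
        rw [hFr l p p j]; ring
      simp only [h2]
      conv_lhs => rw [← hr', Finset.sum_mul]
      exact Finset.sum_congr rfl fun l _ => by ring
    calc F p p * F i j = F i p * F p j := by rw [hFr i p p j]; ring
      _ = v i * (g * F p j) := by rw [hv i]; ring
      _ = F p p * (v i * w j) := by rw [hgw]; ring
  have hvw : ∑ i, v i * w i = 1 := by rw [← hFtr]; simp [hF]
  obtain ⟨q, hq⟩ : ∃ q, (v q).coeff 0 * (w q).coeff 0 ≠ 0 := by
    by_contra hc
    push Not at hc
    have := congrArg (fun P => P.coeff 0) hvw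
    simp [Polynomial.mul_coeff_zero, hc] at this
  let c : K := (v q).coeff 0
  have hc0 : c ≠ 0 := left_ne_zero_of_mul hq
  let v' : n → K[X] := fun i => C c⁻¹ * v i
  let w' : n → K[X] := fun j => C c * w j
  have hF' : ∀ i j, F i j = v' i * w' j := by
    intro i j
    have : (C c⁻¹ : K[X]) * C c = 1 := by rw [← C_mul, inv_mul_cancel₀ hc0, C_1]
    rw [hF]
    linear_combination (norm := (simp only [v', w']; ring)) -(v i * w j) * this
  have hv'q : (v' q).coeff 0 = 1 := by simp [v', c, hc0]
  have hrange : ∀ i j m, (F i j).coeff m ∈ ι.range := fun i j m =>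
    ⟨(E i j).coeff m, by simp [F]⟩
  have hwmem : ∀ j m, (w' j).coeff m ∈ ι.range := by
    intro j m
    have := coeff_mul_coeff_mem A K (v' q) (w' j)
      (fun l => by rw [← hF']; exact hrange q j l) 0 m
    rwa [hv'q, one_mul] at this
  obtain ⟨d, hd⟩ := h0 q q
  have hwq : (w' q).coeff 0 = ι (algebraMap k A d) := by
    have h1 : (F q q).coeff 0 = ι ((E q q).coeff 0) := Polynomial.coeff_map _ _
    rw [hd, hF' q q, Polynomial.mul_coeff_zero, hv'q, one_mul] at h1
    exact h1
  have hd0 : d ≠ 0 := by
    rintro rfl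
    rw [map_zero, map_zero] at hwq
    simp [w', c] at hwq
    exact hq (by rcases hwq with h | h <;> simp [h])
  have hvmem : ∀ i m, (v' i).coeff m ∈ ι.range := by
    intro i m
    have h1 := coeff_mul_coeff_mem A K (v' i) (w' q)
      (fun l => by rw [← hF']; exact hrange i q l) m 0
    have h2 : ι (algebraMap k A d⁻¹) ∈ ι.range := ⟨_, rfl⟩
    have h3 : (v' i).coeff m = (v' i).coeff m * (w' q).coeff 0 * ι (algebraMap k A d⁻¹) := by
      rw [hwq, mul_assoc, ← map_mul, ← map_mul, mul_inv_cancel₀ hd0]
      simp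
    rw [h3]
    exact mul_mem h1 h2
  have hev : ∀ P : K[X], (∀ m, P.coeff m ∈ ι.range) → P.eval 1 ∈ ι.range := by
    intro P hP
    rw [Polynomial.eval_eq_sum, Polynomial.sum_def]
    exact sum_mem fun m _ => by simpa using hP m
  choose V hV using fun i => hev (v' i) (hvmem i)
  choose W hW using fun j => hev (w' j) (hwmem j)
  refine ⟨V, W, fun i j => hι ?_, hι ?_⟩
  · rw [map_mul, hV, hW, ← Polynomial.eval_mul, ← hF']
    simp [F, Polynomial.eval_map, Polynomial.eval₂_at_one]
  · rw [map_sum, map_one]
    simp only [map_mul, hV, hW, ← Polynomial.eval_mul, ← hF', ← Polynomial.eval_finsetSum, hFtr,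
      Polynomial.eval_one]

/-- An invertible module over a normal domain `A` with a contraction `φ : A → A[t]` onto a
subfield is free. -/
theorem free_of_contraction {k : Type*} [Field k] [Algebra k A] (φ : A →+* A[X])
    (h1 : ∀ a, (φ a).eval 1 = a) (h0 : ∀ a, ∃ c : k, (φ a).coeff 0 = algebraMap k A c)
    (M : Type*) [AddCommGroup M] [Module A M] [Module.Invertible A M] : Module.Free A M := by
  classical
  let K := FractionRing A
  have : CommRing.Pic.mk A M ∈ CommRing.relPic A K := Subsingleton.elim ..
  obtain ⟨I, eq⟩ := Submodule.range_unitsToPic A K ▸ this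
  obtain ⟨e⟩ := CommRing.Pic.mk_eq_mk_iff.mp eq.symm
  have h1I : (1 : K) ∈ (I : Submodule A K) * ↑I⁻¹ := by
    rw [← Units.val_mul, mul_inv_cancel, Units.val_one]
    exact Submodule.mem_one.mpr ⟨1, map_one _⟩
  obtain ⟨S, hS, hsum⟩ : ∃ S : List (K × K),
      (∀ p ∈ S, p.1 ∈ (I : Submodule A K) ∧ p.2 ∈ (↑I⁻¹ : Submodule A K)) ∧
        (S.map fun p => p.1 * p.2).sum = 1 := by
    revert h1I
    generalize (1 : K) = x
    intro hx
    induction hx using Submodule.mul_induction_on' with
    | mem_mul_mem m hm n hn => exact ⟨[(m, n)], by simp [hm, hn], by simp⟩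
    | add x hx y hy hx' hy' =>
      obtain ⟨S, hS, rfl⟩ := hx'
      obtain ⟨T, hT, rfl⟩ := hy'
      exact ⟨S ++ T, fun p hp => (List.mem_append.mp hp).elim (hS p) (hT p), by simp⟩
  let a : Fin S.length → K := fun i => (S.get i).1
  let b : Fin S.length → K := fun i => (S.get i).2
  have ha : ∀ i, a i ∈ (I : Submodule A K) := fun i => (hS _ (S.get_mem i)).1
  have hab : ∑ i, a i * b i = 1 := by
    rw [← hsum, ← Fin.sum_univ_fun_getElem]
    rfl
  have hprod : ∀ x ∈ (I : Submodule A K), ∀ i, ∃ y : A, algebraMap A K y = x * b i := by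
    intro x hx i
    have : x * b i ∈ (I : Submodule A K) * ↑I⁻¹ :=
      Submodule.mul_mem_mul hx (hS _ (S.get_mem i)).2
    rw [← Units.val_mul, mul_inv_cancel, Units.val_one, Submodule.mem_one] at this
    exact this
  choose E hE using fun i j => hprod (a i) (ha i) j
  have hι : Function.Injective (algebraMap A K) := IsFractionRing.injective A K
  obtain ⟨v, w, hvw, -⟩ := exists_split_eval_one (k := k) (fun i j => φ (E i j))
    (fun i j i' j' => by
      rw [← map_mul, ← map_mul]
      congr 1
      apply hι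
      simp only [map_mul, hE]
      ring)
    (by rw [← map_sum, ← map_one φ]; congr 1; apply hι; simp [map_sum, hE, hab])
    (fun i j => h0 _)
  simp only [h1] at hvw
  let g : K := ∑ j, a j * algebraMap A K (w j)
  have hga : ∀ i, a i = algebraMap A K (v i) * g := by
    intro i
    calc a i = a i * ∑ j, a j * b j := by rw [hab, mul_one]
      _ = ∑ j, a j * (algebraMap A K (E i j)) := by
        rw [Finset.mul_sum]; exact Finset.sum_congr rfl fun j _ => by rw [hE]; ring
      _ = _ := by
        simp only [g, Finset.mul_sum, hvw, map_mul]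
        exact Finset.sum_congr rfl fun j _ => by ring
  have hgI : g ∈ (I : Submodule A K) := sum_mem fun j _ => by
    rw [mul_comm, ← Algebra.smul_def]; exact Submodule.smul_mem _ _ (ha j)
  have hspan : (I : Submodule A K) = Submodule.span A {g} := by
    refine le_antisymm (fun x hx => ?_) (by simpa [Submodule.span_le] using hgI)
    choose y hy using hprod x hx
    refine Submodule.mem_span_singleton.mpr ⟨∑ i, y i * v i, ?_⟩
    calc (∑ i, y i * v i) • g = ∑ i, algebraMap A K (y i) * (algebraMap A K (v i) * g) := by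
          simp [Algebra.smul_def, map_sum, Finset.sum_mul, mul_assoc]
      _ = x * ∑ i, a i * b i := by
          rw [Finset.mul_sum]
          exact Finset.sum_congr rfl fun i _ => by rw [← hga, hy]; ring
      _ = x := by rw [hab, mul_one]
  have hg : g ≠ 0 := by
    intro hg
    have h0a : ∀ i, a i = 0 := fun i => by rw [hga, hg, mul_zero]
    simp [h0a] at hab
  exact Module.Free.of_equiv ((LinearEquiv.toSpanNonzeroSingleton A K g hg).trans
    ((LinearEquiv.ofEq _ _ hspan.symm).trans e.symm))

theorem prod_mul_pow {R : Type*} [CommMonoid R] {σ : Type*} (s : Finset σ) (u : σ → R) (x : R)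
    (m : σ → ℕ) : ∏ i ∈ s, (u i * x) ^ m i = (∏ i ∈ s, u i ^ m i) * x ^ ∑ i ∈ s, m i := by
  simp only [mul_pow, Finset.prod_mul_distrib, Finset.prod_pow_eq_pow_sum]

/-- The grading contraction of a quotient of a polynomial ring by a homogeneous ideal. -/
theorem free_of_isHomogeneous {k : Type u} [Field k] {σ : Type*}
    (I : Ideal (MvPolynomial σ k))
    (hI : ∃ s : Set (MvPolynomial σ k), (∀ f ∈ s, ∃ d : ℕ, f.IsHomogeneous d) ∧ I = Ideal.span s)
    [IsDomain (MvPolynomial σ k ⧸ I)] [IsIntegrallyClosed (MvPolynomial σ k ⧸ I)]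
    (M : Type*) [AddCommGroup M] [Module (MvPolynomial σ k ⧸ I) M]
    [Module.Invertible (MvPolynomial σ k ⧸ I) M] :
    Module.Free (MvPolynomial σ k ⧸ I) M := by
  obtain ⟨s, hs, hIs⟩ := hI
  let ψ : MvPolynomial σ k →ₐ[k] (MvPolynomial σ k ⧸ I)[X] :=
    MvPolynomial.aeval fun i => Polynomial.C (Ideal.Quotient.mk I (MvPolynomial.X i)) * Polynomial.X
  have hψ : ∀ (f : MvPolynomial σ k) (d : ℕ), f.IsHomogeneous d →
      ψ f = Polynomial.C (Ideal.Quotient.mk I f) * Polynomial.X ^ d := by
    intro f d hf
    conv_lhs => rw [f.as_sum]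
    conv_rhs => rw [f.as_sum]
    simp only [map_sum, Finset.sum_mul]
    refine Finset.sum_congr rfl fun m hm => ?_
    have hd : m.degree = d := by
      have := hf (MvPolynomial.mem_support_iff.mp hm)
      rwa [Finsupp.degree_eq_weight_one] 
    rw [MvPolynomial.aeval_monomial, MvPolynomial.monomial_eq, map_mul]
    simp only [Finsupp.prod, map_prod, map_pow, Polynomial.C_mul]
    erw [prod_mul_pow]
    rw [show ∑ i ∈ m.support, m i = d from hd]
    rw [IsScalarTower.algebraMap_apply k (MvPolynomial σ k ⧸ I) (Polynomial (MvPolynomial σ k ⧸ I)),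
      show algebraMap k (MvPolynomial σ k ⧸ I) (MvPolynomial.coeff m f) =
        Ideal.Quotient.mk I (MvPolynomial.C (MvPolynomial.coeff m f)) from rfl]
    exact (mul_assoc _ _ _).symm
  have hker : ∀ f ∈ I, ψ f = 0 := by
    intro f hf
    rw [hIs] at hf
    refine Submodule.span_induction (p := fun x _ => ψ x = 0) ?_ (map_zero _) ?_ ?_ hf
    · intro x hx
      obtain ⟨d, hd⟩ := hs x hx
      rw [hψ x d hd, Ideal.Quotient.eq_zero_iff_mem.mpr (hIs ▸ Ideal.subset_span hx)]
      simp
    · intro x y _ _ hx hy; simp [hx, hy]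
    · intro r x _ hx; simp [smul_eq_mul, hx]
  refine free_of_contraction (k := k) (Ideal.Quotient.lift I ψ.toRingHom hker) ?_ ?_ M
  · intro a
    obtain ⟨f, rfl⟩ := Ideal.Quotient.mk_surjective a
    change ((Polynomial.evalRingHom 1).comp ψ.toRingHom) f = Ideal.Quotient.mk I f
    congr 1
    apply MvPolynomial.ringHom_ext <;> intro i <;> simp [ψ] <;> rfl
  · intro a
    obtain ⟨f, rfl⟩ := Ideal.Quotient.mk_surjective a
    refine ⟨MvPolynomial.constantCoeff f, ?_⟩
    change (Polynomial.constantCoeff.comp ψ.toRingHom) f =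
      ((algebraMap k (MvPolynomial σ k ⧸ I)).comp MvPolynomial.constantCoeff) f
    congr 1
    apply MvPolynomial.ringHom_ext <;> intro i <;> simp [ψ] <;> rfl

end Groth.Agent.ConePic
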